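import Mathlib

/-!
# Elementwise criterion for quasi-isomorphisms of complexes of modules
-/

set_option autoImplicit false
universe u

open CategoryTheory CategoryTheory.Limits HomologicalComplex

namespace Groth.Agent.H78.NLHens

variable {R : Type u} [Ring R] {K L : CochainComplex (ModuleCat.{u} R) ℤ} (φ : K ⟶ L)

/-- the canonical epimorphism from the free module on the elements of a module -/
noncomputable def freeCover (A : ModuleCat.{u} R) : ModuleCat.of R (A →₀ R) ⟶ A :=
  ModuleCat.ofHom (Finsupp.linearCombination R (fun a : A => a))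

instance (A : ModuleCat.{u} R) : Epi (freeCover A) := by
  rw [ModuleCat.epi_iff_surjective]
  intro a
  exact ⟨Finsupp.single a 1, by simp [freeCover]⟩

theorem mono_homologyMap_of_elementwise (i j k : ℤ) (hi : i + 1 = j) (hk : j + 1 = k)
    (h : ∀ x : K.X j, (K.d j k).hom x = 0 → ∀ y : L.X i, (φ.f j).hom x = (L.d i j).hom y →
      ∃ x' : K.X i, (K.d i j).hom x' = x) :
    Mono (homologyMap φ j) := by
  rw [mono_homologyMap_iff_up_to_refinements φ i j k (by simp [← hi]) (by simp [← hk])]
  intro A x₂ hx₂ y₁ hy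
  have key : ∀ a : A, ∃ x' : K.X i, (K.d i j).hom x' = x₂.hom a := by
    intro a
    refine h (x₂.hom a) ?_ (y₁.hom a) ?_
    · have := congrArg (fun f => f.hom a) hx₂
      simpa using this
    · have := congrArg (fun f => f.hom a) hy
      simpa using this
  choose s hs using key
  refine ⟨ModuleCat.of R (A →₀ R), freeCover A, inferInstance,
    ModuleCat.ofHom (Finsupp.linearCombination R s), ?_⟩
  ext a
  simp [freeCover, hs]

theorem epi_homologyMap_of_elementwise (i j k : ℤ) (hi : i + 1 = j) (hk : j + 1 = k)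
    (h : ∀ y : L.X j, (L.d j k).hom y = 0 →
      ∃ x : K.X j, (K.d j k).hom x = 0 ∧ ∃ y' : L.X i, y = (φ.f j).hom x + (L.d i j).hom y') :
    Epi (homologyMap φ j) := by
  rw [epi_homologyMap_iff_up_to_refinements φ i j k (by simp [← hi]) (by simp [← hk])]
  intro A y₂ hy₂
  have key : ∀ a : A, ∃ x : K.X j, (K.d j k).hom x = 0 ∧
      ∃ y' : L.X i, y₂.hom a = (φ.f j).hom x + (L.d i j).hom y' := by
    intro a
    refine h (y₂.hom a) ?_
    have := congrArg (fun f => f.hom a) hy₂
    simpa using this
  choose s hs t ht using key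
  refine ⟨ModuleCat.of R (A →₀ R), freeCover A, inferInstance,
    ModuleCat.ofHom (Finsupp.linearCombination R s), ?_,
    ModuleCat.ofHom (Finsupp.linearCombination R t), ?_⟩
  · ext a
    simp [hs]
  · ext a
    simp [freeCover, ht]

/-- Elementwise criterion for a quasi-isomorphism in degree `j`. -/
theorem quasiIsoAt_of_elementwise (i j k : ℤ) (hi : i + 1 = j) (hk : j + 1 = k)
    (hinj : ∀ x : K.X j, (K.d j k).hom x = 0 → ∀ y : L.X i, (φ.f j).hom x = (L.d i j).hom y →
      ∃ x' : K.X i, (K.d i j).hom x' = x)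
    (hsurj : ∀ y : L.X j, (L.d j k).hom y = 0 →
      ∃ x : K.X j, (K.d j k).hom x = 0 ∧ ∃ y' : L.X i, y = (φ.f j).hom x + (L.d i j).hom y') :
    QuasiIsoAt φ j := by
  rw [quasiIsoAt_iff_isIso_homologyMap]
  haveI := mono_homologyMap_of_elementwise φ i j k hi hk hinj
  haveI := epi_homologyMap_of_elementwise φ i j k hi hk hsurj
  exact isIso_of_mono_of_epi _

end Groth.Agent.H78.NLHens
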