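import Mathlib
import Groth.Prelude.Def_SheafNL

/-!
# Injectivity of `T ⊗_S I/I² → J/J²` from a flat lift to the first order thickening

Let `P → S` be an extension of `R`-algebras with kernel `I`, and `Q → T` an extension of
`R'`-algebras with kernel `J`, and `a : P → Q` a morphism of extensions.  If there is a flat
`P/I²`-algebra `T'` with a ring map `π : T' → T` with square-zero kernel, compatible with
`P/I² → S → T`, and a ring map `ρ : Q → T'` lifting `Q → T` such that `ρ ∘ a` is the canonical map
`P → P/I² → T'`, then `T ⊗_S I/I² → J/J²` is injective.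
-/

set_option autoImplicit false
set_option linter.style.haveILetI false
set_option linter.unusedSectionVars false
universe u

open TensorProduct Algebra Algebra.Extension

namespace Groth.Agent.H78.NLHens

variable {R S R' T : Type u} [CommRing R] [CommRing S] [CommRing R'] [CommRing T]
  [Algebra R S] [Algebra R' T] [Algebra R R'] [Algebra S T] [Algebra R T]
  [IsScalarTower R R' T] [IsScalarTower R S T]

theorem smul_cotangent_mk (Q : Algebra.Extension.{u} R' T) (t : T) (w : Q.ker) :
    t • Cotangent.mk w = Cotangent.mk (Q.σ t • w) := by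
  rw [map_smul]
  ext
  rw [Cotangent.val_smul, Cotangent.val_smul']

theorem algebraMap_smul_cotangent_mk (P : Algebra.Extension.{u} R S) (x : P.Ring) (w : P.ker) :
    algebraMap P.Ring S x • Cotangent.mk w = Cotangent.mk (x • w) := by
  rw [map_smul, algebraMap_smul]

variable (P : Algebra.Extension.{u} R S) (Q : Algebra.Extension.{u} R' T) (a : P.Hom Q)

theorem liftBaseChange_cotangent_injective
    {T' : Type u} [CommRing T'] [Algebra P.infinitesimal.Ring T']
    [Module.Flat P.infinitesimal.Ring T'] (π : T' →+* T)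
    (hπι : ∀ n : P.infinitesimal.Ring, π (algebraMap P.infinitesimal.Ring T' n) =
      algebraMap S T (algebraMap P.infinitesimal.Ring S n))
    (hsq : ∀ u v, π u = 0 → π v = 0 → u * v = 0)
    (ρ : Q.Ring →+* T') (hρπ : ∀ q, π (ρ q) = algebraMap Q.Ring T q)
    (hρa : ∀ x : P.Ring, ρ (a.toRingHom x) =
      algebraMap P.infinitesimal.Ring T' (Ideal.Quotient.mk (P.ker ^ 2) x)) :
    Function.Injective (LinearMap.liftBaseChange T (Algebra.Extension.Cotangent.map a)) := by
  classical
  rw [injective_iff_map_eq_zero]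
  intro x hx
  obtain ⟨F, rfl⟩ := TensorProduct.exists_finset x
  let p : P.Cotangent → P.ker := Function.surjInv Cotangent.mk_surjective
  have hp : ∀ c, Cotangent.mk (p c) = c := Function.surjInv_eq _
  have hmem : ∀ y : P.ker, a.toRingHom y.1 ∈ Q.ker := by
    intro y
    change algebraMap Q.Ring T (a.toRingHom y.1) = 0
    rw [a.algebraMap_toRingHom]
    have : algebraMap P.Ring S y.1 = 0 := y.2
    rw [this, map_zero]
  -- step 1: an element of `J²`
  have h1 : (∑ i ∈ F, Q.σ i.1 * a.toRingHom (p i.2).1) ∈ Q.ker ^ 2 := by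
    have e1 : ∀ i ∈ F, LinearMap.liftBaseChange T (Algebra.Extension.Cotangent.map a)
        (i.1 ⊗ₜ[S] i.2) = Cotangent.mk (Q.σ i.1 • (⟨a.toRingHom (p i.2).1, hmem _⟩ : Q.ker)) := by
      intro i _
      rw [LinearMap.liftBaseChange_tmul]
      conv_lhs => rw [← hp i.2]
      rw [Cotangent.map_mk, ← smul_cotangent_mk]
      rfl
    rw [map_sum, Finset.sum_congr rfl e1, ← map_sum, Cotangent.mk_eq_zero_iff] at hx
    convert hx using 1
    rw [Submodule.coe_sum]
    rfl
  -- step 2: apply `ρ`
  have hρker : ∀ q ∈ Q.ker, π (ρ q) = 0 := by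
    intro q hq
    rw [hρπ]
    exact hq
  have hρsq : Q.ker ^ 2 ≤ RingHom.ker ρ := by
    rw [pow_two, Ideal.mul_le]
    intro u hu v hv
    rw [RingHom.mem_ker, map_mul]
    exact hsq _ _ (hρker u hu) (hρker v hv)
  have h2 : ρ (∑ i ∈ F, Q.σ i.1 * a.toRingHom (p i.2).1) = 0 := hρsq h1
  -- step 3: the relation in `T'`
  let f : F → P.infinitesimal.Ring := fun i => Ideal.Quotient.mk (P.ker ^ 2) (p i.1.2).1
  let y : F → T' := fun i => ρ (Q.σ i.1.1)
  have hrel : ∑ i, f i • y i = 0 := by
    rw [← h2, map_sum, ← Finset.sum_coe_sort F]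
    refine Finset.sum_congr rfl fun i _ => ?_
    rw [map_mul, hρa, Algebra.smul_def, mul_comm]
  obtain ⟨κ, a', z, hz1, hz2⟩ := Module.Flat.isTrivialRelation_of_sum_smul_eq_zero
    (R := P.infinitesimal.Ring) (M := T') (f := f) (x := y) hrel
  -- step 4: rewrite the sum
  rw [← Finset.sum_coe_sort F]
  have hti : ∀ i : F, i.1.1 = ∑ j, algebraMap S T (algebraMap P.infinitesimal.Ring S (a' i j)) *
      π (z j) := by
    intro i
    have : i.1.1 = π (y i) := by
      change _ = π (ρ (Q.σ i.1.1))
      rw [hρπ, Q.algebraMap_σ]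
    rw [this, hz1 i, map_sum]
    refine Finset.sum_congr rfl fun j _ => ?_
    rw [Algebra.smul_def, map_mul, hπι]
  have hinner : ∀ j, ∑ i : F, algebraMap P.infinitesimal.Ring S (a' i j) • i.1.2 = 0 := by
    intro j
    choose b hb using fun i : F => Ideal.Quotient.mk_surjective (a' i j)
    have e2 : ∀ i : F, algebraMap P.infinitesimal.Ring S (a' i j) • i.1.2 =
        Cotangent.mk (b i • p i.1.2) := by
      intro i
      rw [← hb i]
      conv_lhs => rw [← hp i.1.2]
      exact algebraMap_smul_cotangent_mk P (b i) _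
    rw [Finset.sum_congr rfl fun i _ => e2 i, ← map_sum, Cotangent.mk_eq_zero_iff,
      ← Ideal.Quotient.eq_zero_iff_mem, Submodule.coe_sum, map_sum]
    refine Eq.trans ?_ (hz2 j)
    refine Finset.sum_congr rfl fun i _ => ?_
    change Ideal.Quotient.mk (P.ker ^ 2) (b i * (p i.1.2).1) = f i * a' i j
    rw [map_mul, hb i]
    exact mul_comm _ _
  calc ∑ i : F, i.1.1 ⊗ₜ[S] i.1.2
      = ∑ i : F, ∑ j, π (z j) ⊗ₜ[S] (algebraMap P.infinitesimal.Ring S (a' i j) • i.1.2) := by
        refine Finset.sum_congr rfl fun i _ => ?_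
        conv_lhs => rw [hti i]
        rw [TensorProduct.sum_tmul]
        refine Finset.sum_congr rfl fun j _ => ?_
        rw [← Algebra.smul_def, TensorProduct.smul_tmul]
    _ = ∑ j, π (z j) ⊗ₜ[S] ∑ i : F, algebraMap P.infinitesimal.Ring S (a' i j) • i.1.2 := by
        rw [Finset.sum_comm]
        refine Finset.sum_congr rfl fun j _ => ?_
        rw [TensorProduct.tmul_sum]
    _ = 0 := by
        refine Finset.sum_eq_zero fun j _ => ?_
        rw [hinner j, TensorProduct.tmul_zero]

end Groth.Agent.H78.NLHens
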