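import Mathlib
import Groth.Prelude.Def_SheafNL
import Groth.Agent.H59.NLBC5

/-!
# Surjectivity of the base change map on `H^{-1}` of naive cotangent complexes
-/

set_option autoImplicit false
set_option linter.style.haveILetI false
set_option linter.unusedSectionVars false
universe u

open TensorProduct KaehlerDifferential Algebra

namespace Groth.Agent.H78.NLHens

open Groth.Agent.H59.NLBC5

variable (R S R' T : Type u) [CommRing R] [CommRing S] [CommRing R'] [CommRing T]
  [Algebra R S] [Algebra R' T] [Algebra R R'] [Algebra S T] [Algebra R T]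
  [IsScalarTower R R' T] [IsScalarTower R S T]

/-- For `R → S → T` with `T` flat over `S` and `H¹(L_{T/S}) = 0`, and `R → R' → T` with
`Ω_{R'/R} = 0`, the map `H^{-1}(NL_{S/R} ⊗_S T) → H^{-1}(NL_{T/R'})` is surjective. -/
theorem bcH1Map_surjective [Module.Flat S T] [Subsingleton (Algebra.H1Cotangent S T)]
    [Algebra.FormallyUnramified R R']
    (f : (Generators.self R S).toExtension.Hom (Generators.self R' T).toExtension) :
    Function.Surjective (NLCx.bcH1Map f) := by
  let g₁ := Algebra.H1Cotangent.map R R S T
  let g₂ := Algebra.H1Cotangent.map R R' T T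
  have h₁ : Function.Surjective (g₁.liftBaseChange T) := by
    intro ζ
    have hex := Algebra.H1Cotangent.exact_liftBaseChange_map_of_flat R S T
    exact (hex ζ).mp (Subsingleton.elim _ _)
  have h₂ : Function.Surjective g₂ := by
    intro η
    have hex := Algebra.H1Cotangent.exact_map_δ R R' T
    haveI : Subsingleton (T ⊗[R'] Ω[R'⁄R]) := by
      haveI : Subsingleton Ω[R'⁄R] := inferInstance
      infer_instance
    exact (hex η).mp (Subsingleton.elim _ _)
  -- the key identity on generators
  have hmem : ∀ ξ : Algebra.H1Cotangent R S,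
      (1 : T) ⊗ₜ[S] (ξ.1 : (Generators.self R S).toExtension.Cotangent) ∈
        NLCx.bcH1 (Generators.self R S).toExtension T := by
    intro ξ
    change (Generators.self R S).toExtension.cotangentComplex.baseChange T _ = 0
    rw [LinearMap.baseChange_tmul]
    have : (Generators.self R S).toExtension.cotangentComplex ξ.1 = 0 := ξ.2
    rw [this, tmul_zero]
  have hkey : ∀ ξ : Algebra.H1Cotangent R S,
      NLCx.bcH1Map f ⟨(1 : T) ⊗ₜ[S] (ξ.1 : (Generators.self R S).toExtension.Cotangent), hmem ξ⟩ = g₂ (g₁ ξ) := by
    intro ξ
    apply Subtype.ext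
    rw [bcH1Map_val]
    change LinearMap.liftBaseChange T (Extension.Cotangent.map f) ((1 : T) ⊗ₜ[S] ξ.1) = _
    rw [LinearMap.liftBaseChange_tmul, one_smul]
    change (Extension.H1Cotangent.map f ξ).1 = _
    rw [Extension.H1Cotangent.map_eq f
      (((Generators.self R T).defaultHom (Generators.self R' T)).toExtensionHom.comp
        ((Generators.self R S).defaultHom (Generators.self R T)).toExtensionHom),
      Extension.H1Cotangent.map_comp_apply]
    rfl
  have hrange : ∀ w : T ⊗[S] Algebra.H1Cotangent R S,
      g₂ (g₁.liftBaseChange T w) ∈ LinearMap.range (NLCx.bcH1Map f) := by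
    intro w
    induction w using TensorProduct.induction_on with
    | zero => simp
    | add x y hx hy =>
      rw [map_add, map_add]
      exact Submodule.add_mem _ hx hy
    | tmul t ξ =>
      rw [LinearMap.liftBaseChange_tmul, map_smul, ← hkey]
      exact Submodule.smul_mem _ _ (LinearMap.mem_range_self _ _)
  intro η
  obtain ⟨ζ, rfl⟩ := h₂ η
  obtain ⟨w, rfl⟩ := h₁ ζ
  exact LinearMap.mem_range.mp (hrange w)

end Groth.Agent.H78.NLHens
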