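import Mathlib
import Groth.Prelude.Def_SheafNL
import Groth.Agent.H59.NLBC5
import Groth.Agent.H78.NLHens.Elementwise

/-!
# Quasi-isomorphism criterion for the base change map of naive cotangent complexes
-/

set_option autoImplicit false
set_option linter.style.haveILetI false
set_option linter.unusedSectionVars false
universe u

open CategoryTheory CategoryTheory.Limits HomologicalComplex TensorProduct

namespace Groth.Agent.H78.NLHens

open Groth.Agent.H59.NLHomotopy Groth.Agent.H59.NLBC

section Iso

variable {R : Type u} [Ring R] {M N : ModuleCat.{u} R}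

theorem iso_inv_hom (e : M ≅ N) (x : N) : e.hom.hom (e.inv.hom x) = x := by
  have := congrArg (fun f => f.hom x) e.inv_hom_id
  simpa using this

theorem iso_hom_inv (e : M ≅ N) (x : M) : e.inv.hom (e.hom.hom x) = x := by
  have := congrArg (fun f => f.hom x) e.hom_inv_id
  simpa using this

theorem iso_hom_injective (e : M ≅ N) : Function.Injective e.hom.hom := fun x y h => by
  rw [← iso_hom_inv e x, h, iso_hom_inv]

theorem iso_inv_injective (e : M ≅ N) : Function.Injective e.inv.hom := fun x y h => by
  rw [← iso_inv_hom e x, h, iso_inv_hom]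

theorem eq_zero_of_isZero (h : IsZero M) (x : M) : x = 0 := by
  haveI := ModuleCat.subsingleton_of_isZero h
  exact Subsingleton.elim _ _

end Iso

variable {R S R' S' : Type u} [CommRing R] [CommRing S] [CommRing R'] [CommRing S']
  [Algebra R S] [Algebra R' S'] [Algebra R R'] [Algebra S S'] [Algebra R S']
  [IsScalarTower R R' S'] [IsScalarTower R S S']
variable {P : Algebra.Extension.{u} R S} {P' : Algebra.Extension.{u} R' S'}

theorem bc_d_apply (x : (NLCx.bcCx P S').X (-1)) :
    ((NLCx.bcCx P S').d (-1) 0).hom x =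
      (bcXIso₁ P S').inv.hom (P.cotangentComplex.baseChange S' ((bcXIso₀ P S').hom.hom x)) := by
  rw [bc_d]
  rfl

theorem cx_d_apply (y : (NLCx.cx P').X (-1)) :
    ((NLCx.cx P').d (-1) 0).hom y =
      (xIso₁ P').inv.hom (P'.cotangentComplex ((xIso₀ P').hom.hom y)) := by
  rw [cx_d]
  rfl

theorem bcMap_f_neg_one_apply (f : P.Hom P') (x : (NLCx.bcCx P S').X (-1)) :
    ((NLCx.bcMap f).f (-1)).hom x = (xIso₀ P').inv.hom
      (LinearMap.liftBaseChange S' (Algebra.Extension.Cotangent.map f)
        ((bcXIso₀ P S').hom.hom x)) := by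
  rw [bcMap_f_neg_one]
  rfl

theorem bcMap_f_zero_apply (f : P.Hom P') (x : (NLCx.bcCx P S').X 0) :
    ((NLCx.bcMap f).f 0).hom x = (xIso₁ P').inv.hom
      (LinearMap.liftBaseChange S' (Algebra.Extension.CotangentSpace.map f)
        ((bcXIso₁ P S').hom.hom x)) := by
  rw [bcMap_f_zero]
  rfl

/-- `NLCx.bcMap f` is a quasi-isomorphism as soon as it is bijective on `H^{-1}` and "bijective on
cokernels". -/
theorem quasiIso_bcMap_of (f : P.Hom P')
    (h1 : Function.Bijective (NLCx.bcH1Map f))
    (h0inj : ∀ (x : S' ⊗[S] P.CotangentSpace) (y : P'.Cotangent),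
      LinearMap.liftBaseChange S' (Algebra.Extension.CotangentSpace.map f) x =
        P'.cotangentComplex y → ∃ x', P.cotangentComplex.baseChange S' x' = x)
    (h0surj : ∀ y : P'.CotangentSpace, ∃ (x : S' ⊗[S] P.CotangentSpace) (y' : P'.Cotangent),
      y = LinearMap.liftBaseChange S' (Algebra.Extension.CotangentSpace.map f) x +
        P'.cotangentComplex y') :
    QuasiIso (NLCx.bcMap f) := by
  refine ⟨fun j => ?_⟩
  by_cases hj₀ : j = -1
  · subst hj₀
    refine quasiIsoAt_of_elementwise _ (-2) (-1) 0 (by norm_num) (by norm_num) ?_ ?_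
    · intro x hx y hy
      refine ⟨0, ?_⟩
      rw [map_zero]
      have hy0 : y = 0 := eq_zero_of_isZero (isZero_X P' (-2) (by decide) (by decide)) y
      rw [hy0, map_zero, bcMap_f_neg_one_apply] at hy
      have hA := iso_inv_injective (xIso₀ P') (hy.trans (map_zero _).symm)
      rw [bc_d_apply] at hx
      have hD := iso_inv_injective (bcXIso₁ P S') (hx.trans (map_zero _).symm)
      have hz : (⟨(bcXIso₀ P S').hom.hom x, hD⟩ : NLCx.bcH1 P S') = 0 := by
        apply h1.1
        rw [map_zero]
        apply Subtype.ext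
        exact hA
      have hz' : (bcXIso₀ P S').hom.hom x = 0 := congrArg Subtype.val hz
      exact (iso_hom_injective (bcXIso₀ P S') (hz'.trans (map_zero _).symm)).symm
    · intro y hy
      rw [cx_d_apply] at hy
      have hD' := iso_inv_injective (xIso₁ P') (hy.trans (map_zero _).symm)
      obtain ⟨⟨x, hx⟩, hxy⟩ := h1.2 ⟨(xIso₀ P').hom.hom y, hD'⟩
      have hxy' : LinearMap.liftBaseChange S' (Algebra.Extension.Cotangent.map f) x =
          (xIso₀ P').hom.hom y := congrArg Subtype.val hxy
      refine ⟨(bcXIso₀ P S').inv.hom x, ?_, 0, ?_⟩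
      · rw [bc_d_apply, iso_inv_hom]
        have : P.cotangentComplex.baseChange S' x = 0 := hx
        rw [this, map_zero]
      · rw [map_zero, add_zero, bcMap_f_neg_one_apply, iso_inv_hom, hxy', iso_hom_inv]
  · by_cases hj₁ : j = 0
    · subst hj₁
      refine quasiIsoAt_of_elementwise _ (-1) 0 1 (by norm_num) (by norm_num) ?_ ?_
      · intro x _ y hy
        rw [bcMap_f_zero_apply, cx_d_apply] at hy
        have hB := iso_inv_injective (xIso₁ P') hy
        obtain ⟨x', hx'⟩ := h0inj _ _ hB
        refine ⟨(bcXIso₀ P S').inv.hom x', ?_⟩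
        rw [bc_d_apply, iso_inv_hom, hx', iso_hom_inv]
      · intro y _
        obtain ⟨x, y', hxy⟩ := h0surj ((xIso₁ P').hom.hom y)
        refine ⟨(bcXIso₁ P S').inv.hom x, ?_, (xIso₀ P').inv.hom y', ?_⟩
        · exact eq_zero_of_isZero (isZero_bcX P S' 1 (by decide) (by decide)) _
        · rw [bcMap_f_zero_apply, cx_d_apply, iso_inv_hom, iso_inv_hom, ← map_add, ← hxy,
            iso_hom_inv]
    · have hK : IsZero ((NLCx.bcCx P S').X j) := isZero_bcX P S' j hj₀ hj₁
      have hL : IsZero ((NLCx.cx P').X j) := isZero_X P' j hj₀ hj₁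
      refine quasiIsoAt_of_elementwise _ (j - 1) j (j + 1) (by omega) rfl ?_ ?_
      · intro x _ _ _
        exact ⟨0, by rw [map_zero]; exact (eq_zero_of_isZero hK x).symm⟩
      · intro y _
        refine ⟨0, map_zero _, 0, ?_⟩
        rw [map_zero, map_zero, add_zero]
        exact eq_zero_of_isZero hL y

end Groth.Agent.H78.NLHens
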