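import Mathlib
import Groth.Prelude.Def_SheafNL
import Groth.Agent.H78.NLHens.Qis

/-!
# The degree zero part of the base change map of naive cotangent complexes
-/

set_option autoImplicit false
set_option linter.style.haveILetI false
set_option linter.unusedSectionVars false
universe u

open TensorProduct KaehlerDifferential

namespace Groth.Agent.H78.NLHens

variable {R S R' S' : Type u} [CommRing R] [CommRing S] [CommRing R'] [CommRing S']
  [Algebra R S] [Algebra R' S'] [Algebra R R'] [Algebra S S'] [Algebra R S']
  [IsScalarTower R R' S'] [IsScalarTower R S S']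
variable {P : Algebra.Extension.{u} R S} {P' : Algebra.Extension.{u} R' S'}

/-- naturality of `toKaehler` -/
theorem toKaehler_map (f : P.Hom P') (c : P.CotangentSpace) :
    P'.toKaehler (Algebra.Extension.CotangentSpace.map f c) =
      KaehlerDifferential.map R R' S S' (P.toKaehler c) := by
  induction c using TensorProduct.induction_on with
  | zero => simp
  | add x y hx hy => simp only [map_add, hx, hy]
  | tmul s w =>
    obtain ⟨w, rfl⟩ := KaehlerDifferential.tensorProductTo_surjective _ _ w
    induction w with
    | zero => simp
    | add x y hx hy => simp only [map_add, tmul_add, hx, hy]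
    | tmul a b =>
      simp only [Derivation.tensorProductTo_tmul, tmul_smul]
      rw [smul_tmul']
      generalize a • s = t
      rw [Algebra.Extension.CotangentSpace.map_tmul,
        Algebra.Extension.toKaehler, Algebra.Extension.toKaehler, mapBaseChange_tmul,
        mapBaseChange_tmul, map_D, map_D, LinearMap.map_smul_of_tower, map_D, algebraMap_smul]
      congr 2
      exact f.algebraMap_toRingHom b

theorem toKaehler_lift (f : P.Hom P') (z : S' ⊗[S] P.CotangentSpace) :
    P'.toKaehler (LinearMap.liftBaseChange S' (Algebra.Extension.CotangentSpace.map f) z) =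
      NLCx.bcH0Map R S R' S' (P.toKaehler.baseChange S' z) := by
  induction z using TensorProduct.induction_on with
  | zero => simp
  | add x y hx hy => simp only [map_add, hx, hy]
  | tmul s c =>
    rw [LinearMap.liftBaseChange_tmul, map_smul, toKaehler_map, LinearMap.baseChange_tmul,
      NLCx.bcH0Map, LinearMap.liftBaseChange_tmul]

/-- the injectivity half of the degree zero condition -/
theorem h0inj_of (f : P.Hom P') (h : Function.Injective (NLCx.bcH0Map R S R' S'))
    (x : S' ⊗[S] P.CotangentSpace) (y : P'.Cotangent)
    (hxy : LinearMap.liftBaseChange S' (Algebra.Extension.CotangentSpace.map f) x =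
      P'.cotangentComplex y) : ∃ x', P.cotangentComplex.baseChange S' x' = x := by
  have h1 : P'.toKaehler (LinearMap.liftBaseChange S'
      (Algebra.Extension.CotangentSpace.map f) x) = 0 := by
    rw [hxy]
    exact P'.exact_cotangentComplex_toKaehler.apply_apply_eq_zero y
  rw [toKaehler_lift] at h1
  have h2 : P.toKaehler.baseChange S' x = 0 := h (h1.trans (map_zero _).symm)
  have hex : Function.Exact (P.cotangentComplex.baseChange S') (P.toKaehler.baseChange S') := by
    rw [LinearMap.baseChange_eq_ltensor, LinearMap.baseChange_eq_ltensor]
    exact lTensor_exact S' P.exact_cotangentComplex_toKaehler P.toKaehler_surjective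
  exact (hex x).mp h2

/-- the surjectivity half of the degree zero condition -/
theorem h0surj_of (f : P.Hom P') (h : Function.Surjective (NLCx.bcH0Map R S R' S'))
    (y : P'.CotangentSpace) : ∃ (x : S' ⊗[S] P.CotangentSpace) (y' : P'.Cotangent),
      y = LinearMap.liftBaseChange S' (Algebra.Extension.CotangentSpace.map f) x +
        P'.cotangentComplex y' := by
  obtain ⟨w, hw⟩ := h (P'.toKaehler y)
  have hs : Function.Surjective (P.toKaehler.baseChange S') := by
    rw [LinearMap.baseChange_eq_ltensor]
    exact LinearMap.lTensor_surjective S' P.toKaehler_surjective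
  obtain ⟨x, rfl⟩ := hs w
  rw [← toKaehler_lift f] at hw
  have h0 : P'.toKaehler (y - LinearMap.liftBaseChange S'
      (Algebra.Extension.CotangentSpace.map f) x) = 0 := by
    rw [map_sub, hw, sub_self]
  obtain ⟨y', hy'⟩ := (P'.exact_cotangentComplex_toKaehler _).mp h0
  exact ⟨x, y', by rw [hy']; abel⟩

section Bij

variable (R S R' S')

theorem bcH0Map_eq (w : S' ⊗[S] Ω[S⁄R]) :
    NLCx.bcH0Map R S R' S' w =
      KaehlerDifferential.map R R' S' S' (KaehlerDifferential.mapBaseChange R S S' w) := by
  induction w using TensorProduct.induction_on with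
  | zero => simp
  | add x y hx hy => simp only [map_add, hx, hy]
  | tmul s w =>
    rw [NLCx.bcH0Map, LinearMap.liftBaseChange_tmul, mapBaseChange_tmul, map_smul]
    congr 1
    obtain ⟨w, rfl⟩ := KaehlerDifferential.tensorProductTo_surjective _ _ w
    induction w with
    | zero => simp
    | add x y hx hy => simp only [map_add, hx, hy]
    | tmul a b =>
      simp only [Derivation.tensorProductTo_tmul]
      rw [LinearMap.map_smul_of_tower, LinearMap.map_smul_of_tower, LinearMap.map_smul_of_tower,
        map_D, map_D, map_D]
      rfl

/-- For a commutative square with `S → S'` formally étale and `R → R'` formally unramified,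
`S' ⊗_S Ω_{S/R} → Ω_{S'/R'}` is bijective. -/
theorem bcH0Map_bijective [Algebra.FormallyEtale S S'] [Algebra.FormallyUnramified R R'] :
    Function.Bijective (NLCx.bcH0Map R S R' S') := by
  have h1 : Function.Bijective (KaehlerDifferential.mapBaseChange R S S') := by
    have := (KaehlerDifferential.tensorKaehlerEquivOfFormallyEtale R S S').bijective
    convert this using 1
    funext w
    exact (KaehlerDifferential.tensorKaehlerEquivOfFormallyEtale_apply R S S' w).symm
  have h2 : Function.Bijective (KaehlerDifferential.map R R' S' S') := by
    refine ⟨?_, KaehlerDifferential.map_surjective R R' S'⟩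
    rw [injective_iff_map_eq_zero]
    intro x hx
    obtain ⟨z, rfl⟩ := (KaehlerDifferential.exact_mapBaseChange_map R R' S' x).mp hx
    haveI : Subsingleton (S' ⊗[R'] Ω[R'⁄R]) := by
      haveI : Subsingleton Ω[R'⁄R] := inferInstance
      infer_instance
    rw [Subsingleton.elim z 0, map_zero]
  have : (NLCx.bcH0Map R S R' S' : S' ⊗[S] Ω[S⁄R] → Ω[S'⁄R']) =
      KaehlerDifferential.map R R' S' S' ∘ KaehlerDifferential.mapBaseChange R S S' := by
    funext w
    exact bcH0Map_eq R S R' S' w
  rw [this]
  exact h2.comp h1

end Bij

end Groth.Agent.H78.NLHens
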