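import Mathlib
import Groth.Prelude.Def_SheafNL
import Groth.Agent.H59.NLBC5
import Groth.Agent.H78.NLHens.Qis
import Groth.Agent.H78.NLHens.HZero
import Groth.Agent.H78.NLHens.HOneSurj
import Groth.Agent.H78.NLHens.FlatLift

/-!
# `NL_{S/R} ⊗_S T → NL_{T/R'}` is a quasi-isomorphism for "ind-étale" squares with a flat lift
-/

set_option autoImplicit false
set_option linter.style.haveILetI false
set_option linter.unusedSectionVars false
universe u

open TensorProduct Algebra Algebra.Extension MvPolynomial

namespace Groth.Agent.H78.NLHens

open Groth.Agent.H59.NLBC5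

variable (R S R' T : Type u) [CommRing R] [CommRing S] [CommRing R'] [CommRing T]
  [Algebra R S] [Algebra R' T] [Algebra R R'] [Algebra S T] [Algebra R T]
  [IsScalarTower R R' T] [IsScalarTower R S T]

/-- the generators of `T` over `R'` indexed by `S ⊕ T` -/
noncomputable def sumGens : Generators R' T (S ⊕ T) :=
  Generators.ofSurjective (Sum.elim (algebraMap S T) id) (fun t => ⟨X (Sum.inr t), by simp⟩)

/-- the morphism of presentations `R[S] → R'[S ⊕ T]` -/
noncomputable def toSumGens : (Generators.self R S).Hom (sumGens S R' T) where
  val s := X (Sum.inl s)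
  aeval_val s := by simp [sumGens, Generators.ofSurjective]

variable {R S R' T}

/-- The key injectivity statement: with a flat lift `T'` of `T` to `R[S]/I²`, the map
`H^{-1}(NL_{S/R} ⊗_S T) → H^{-1}(NL_{T/R'})` is injective. -/
theorem bcH1Map_injective [Algebra.FormallySmooth R R']
    {T' : Type u} [CommRing T'] [Algebra (Generators.self R S).toExtension.infinitesimal.Ring T']
    [Module.Flat (Generators.self R S).toExtension.infinitesimal.Ring T'] (π : T' →+* T)
    (hπ : Function.Surjective π)
    (hπι : ∀ n : (Generators.self R S).toExtension.infinitesimal.Ring,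
      π (algebraMap (Generators.self R S).toExtension.infinitesimal.Ring T' n) =
      algebraMap S T (algebraMap (Generators.self R S).toExtension.infinitesimal.Ring S n))
    (hsq : ∀ u v, π u = 0 → π v = 0 → u * v = 0)
    (f : (Generators.self R S).toExtension.Hom (Generators.self R' T).toExtension) :
    Function.Injective (NLCx.bcH1Map f) := by
  classical
  -- the canonical map `ι : R[S] → T'`
  let P := (Generators.self R S).toExtension
  let ι : P.Ring →+* T' :=
    (algebraMap P.infinitesimal.Ring T').comp (Ideal.Quotient.mk (P.ker ^ 2))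
  have hπι' : ∀ x : P.Ring, π (ι x) = algebraMap S T (algebraMap P.Ring S x) := fun x => hπι _
  -- `T'` as an `R`-algebra and the lift `λ : R' → T'`
  letI algRT' : Algebra R T' := (ι.comp (algebraMap R P.Ring)).toAlgebra
  let g : T' →ₐ[R] T :=
    { π with
      commutes' := fun r => by
        change π (ι (algebraMap R P.Ring r)) = _
        rw [hπι', ← IsScalarTower.algebraMap_apply R P.Ring S,
          ← IsScalarTower.algebraMap_apply R S T] }
  have hg : Function.Surjective g := hπ
  have hnil : IsNilpotent (RingHom.ker (g : T' →+* T)) := by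
    refine ⟨2, ?_⟩
    rw [Ideal.zero_eq_bot, eq_bot_iff, pow_two, Ideal.mul_le]
    intro u hu v hv
    rw [Ideal.mem_bot]
    exact hsq u v hu hv
  let lam : R' →ₐ[R] T' :=
    Algebra.FormallySmooth.liftOfSurjective (IsScalarTower.toAlgHom R R' T) g hg hnil
  have hlam₂ : ∀ r', π (lam r') = algebraMap R' T r' := fun r' =>
    AlgHom.congr_fun (Algebra.FormallySmooth.comp_liftOfSurjective
      (IsScalarTower.toAlgHom R R' T) g hg hnil) r'
  have hlam₁ : ∀ r : R, lam (algebraMap R R' r) = ι (algebraMap R P.Ring r) := fun r =>
    lam.commutes r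
  -- the map `ρ : R'[S ⊕ T] → T'`
  let σ : T → T' := Function.surjInv hπ
  have hσ : ∀ t, π (σ t) = t := Function.surjInv_eq hπ
  let ρ : (sumGens S R' T).toExtension.Ring →+* T' :=
    MvPolynomial.eval₂Hom (lam : R' →+* T') (Sum.elim (fun s => ι (X s)) σ)
  have hρπ : ∀ q, π (ρ q) = algebraMap (sumGens S R' T).toExtension.Ring T q := by
    intro q
    have : π.comp ρ = algebraMap (sumGens S R' T).toExtension.Ring T := by
      apply MvPolynomial.ringHom_ext
      · intro r'
        change π (MvPolynomial.eval₂Hom _ _ (C r')) = _
        rw [MvPolynomial.eval₂Hom_C]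
        change π (lam r') = MvPolynomial.aeval (sumGens S R' T).val (C r')
        rw [hlam₂, MvPolynomial.aeval_C]
      · intro i
        change π (MvPolynomial.eval₂Hom _ _ (X i)) = _
        rw [MvPolynomial.eval₂Hom_X']
        change _ = MvPolynomial.aeval (sumGens S R' T).val (X i)
        rw [MvPolynomial.aeval_X]
        rcases i with s | t
        · change π (ι (X s)) = algebraMap S T s
          refine (hπι' (X s)).trans ?_
          congr 1
          change MvPolynomial.aeval (Generators.self R S).val (X s) = s
          rw [MvPolynomial.aeval_X]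
          rfl
        · exact hσ t
    exact RingHom.congr_fun this q
  have hρa : ∀ x : P.Ring, ρ ((toSumGens R S R' T).toExtensionHom.toRingHom x) =
      algebraMap P.infinitesimal.Ring T' (Ideal.Quotient.mk (P.ker ^ 2) x) := by
    intro x
    have : ρ.comp (toSumGens R S R' T).toExtensionHom.toRingHom = ι := by
      apply MvPolynomial.ringHom_ext
      · intro r
        rw [Generators.Hom.toExtensionHom_toRingHom]
        change ρ ((toSumGens R S R' T).toAlgHom (C r)) = ι (C r)
        rw [Generators.Hom.toAlgHom_C]
        change MvPolynomial.eval₂Hom _ _ (C _) = _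
        rw [MvPolynomial.eval₂Hom_C]
        exact hlam₁ r
      · intro s
        rw [Generators.Hom.toExtensionHom_toRingHom]
        change ρ ((toSumGens R S R' T).toAlgHom (X s)) = ι (X s)
        rw [Generators.Hom.toAlgHom_X]
        change MvPolynomial.eval₂Hom _ _ (X (Sum.inl s)) = _
        rw [MvPolynomial.eval₂Hom_X']
        rfl
    exact RingHom.congr_fun this x
  have hinj := liftBaseChange_cotangent_injective P (sumGens S R' T).toExtension
    (toSumGens R S R' T).toExtensionHom π hπι hsq ρ hρπ hρa
  -- transfer to the standard presentation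
  let a := (toSumGens R S R' T).toExtensionHom
  let b := ((sumGens S R' T).defaultHom (Generators.self R' T)).toExtensionHom
  let b' := ((Generators.self R' T).defaultHom (sumGens S R' T)).toExtensionHom
  rw [bcH1Map_eq f (b.comp a)]
  intro x y hxy
  rw [bcH1Map_comp, bcH1Map_comp] at hxy
  have h1 := (Algebra.Extension.H1Cotangent.equiv b b').injective hxy
  have h2 : (NLCx.bcH1Map a x).1 = (NLCx.bcH1Map a y).1 := congrArg Subtype.val h1
  rw [bcH1Map_val, bcH1Map_val] at h2
  exact Subtype.ext (hinj h2)

/-- Main theorem: for a commutative square with `R → R'` formally étale, `S → T` flat and formally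
étale, and a flat lift of `T` to the first order thickening `R[S]/I²` of `S`, the map
`NL_{S/R} ⊗_S T → NL_{T/R'}` is a quasi-isomorphism. -/
theorem quasiIso_bcMapSelf_of_flatLift [Algebra.FormallyEtale R R'] [Algebra.FormallyEtale S T]
    [Module.Flat S T]
    {T' : Type u} [CommRing T'] [Algebra (Generators.self R S).toExtension.infinitesimal.Ring T']
    [Module.Flat (Generators.self R S).toExtension.infinitesimal.Ring T'] (π : T' →+* T)
    (hπ : Function.Surjective π)
    (hπι : ∀ n : (Generators.self R S).toExtension.infinitesimal.Ring,
      π (algebraMap (Generators.self R S).toExtension.infinitesimal.Ring T' n) =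
      algebraMap S T (algebraMap (Generators.self R S).toExtension.infinitesimal.Ring S n))
    (hsq : ∀ u v, π u = 0 → π v = 0 → u * v = 0) :
    QuasiIso (NLCx.bcMapSelf R S R' T) := by
  haveI : Algebra.FormallySmooth R R' := inferInstance
  haveI : Algebra.FormallyUnramified R R' := inferInstance
  haveI : Algebra.FormallySmooth S T := inferInstance
  haveI : Subsingleton (Algebra.H1Cotangent S T) := inferInstance
  unfold NLCx.bcMapSelf
  have hbij := bcH0Map_bijective R S R' T
  exact quasiIso_bcMap_of _
    ⟨bcH1Map_injective π hπ hπι hsq _, bcH1Map_surjective R S R' T _⟩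
    (h0inj_of _ hbij.1) (h0surj_of _ hbij.2)

end Groth.Agent.H78.NLHens
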