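import Mathlib

/-!
# First order thickenings and base change along them
-/

set_option autoImplicit false
set_option linter.style.haveILetI false
set_option linter.unusedSectionVars false
universe u

open TensorProduct Algebra

namespace Groth.Agent.H78.NLHens

theorem quot_sq_zero {A : Type*} [CommRing A] (I : Ideal A) (x y : A) (hx : x ∈ I) (hy : y ∈ I) :
    Ideal.Quotient.mk (I ^ 2) x * Ideal.Quotient.mk (I ^ 2) y = 0 := by
  rw [← map_mul]
  refine (Ideal.Quotient.eq_zero_iff_mem (I := I ^ 2)).mpr ?_
  rw [pow_two]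
  exact Ideal.mul_mem_mul hx hy

section Inf

variable {R S : Type u} [CommRing R] [CommRing S] [Algebra R S] (P : Algebra.Extension.{u} R S)

theorem algebraMap_infinitesimal_surjective :
    Function.Surjective (algebraMap P.infinitesimal.Ring S) :=
  P.infinitesimal.algebraMap_surjective

theorem infinitesimal_sq_zero (x y : P.infinitesimal.Ring)
    (hx : algebraMap P.infinitesimal.Ring S x = 0) (hy : algebraMap P.infinitesimal.Ring S y = 0) :
    x * y = 0 := by
  obtain ⟨x, rfl⟩ := Ideal.Quotient.mk_surjective x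
  obtain ⟨y, rfl⟩ := Ideal.Quotient.mk_surjective y
  have hx' : x ∈ P.ker := hx
  have hy' : y ∈ P.ker := hy
  exact quot_sq_zero P.ker x y hx' hy'

end Inf

section Ker

variable {A B C : Type u} [CommRing A] [CommRing B] [CommRing C] [Algebra A B] [Algebra A C]

/-- If `A → B` is surjective with square-zero kernel, then the kernel of `C → B ⊗_A C` has
square zero. -/
theorem mul_eq_zero_of_one_tmul_eq_zero (hsurj : Function.Surjective (algebraMap A B))
    (hsq : ∀ x y : A, algebraMap A B x = 0 → algebraMap A B y = 0 → x * y = 0)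
    (u v : C) (hu : (1 : B) ⊗ₜ[A] u = 0) (hv : (1 : B) ⊗ₜ[A] v = 0) : u * v = 0 := by
  let g : A →ₗ[A] B := Algebra.linearMap A B
  have hg : Function.Surjective g := hsurj
  have hex : Function.Exact (LinearMap.rTensor C (LinearMap.ker g).subtype)
      (LinearMap.rTensor C g) :=
    rTensor_exact C (LinearMap.exact_subtype_ker_map g) hg
  let μ : (LinearMap.ker g) ⊗[A] C →ₗ[A] C :=
    (TensorProduct.lid A C).toLinearMap ∘ₗ LinearMap.rTensor C (LinearMap.ker g).subtype
  have hμ : ∀ c : C, (1 : B) ⊗ₜ[A] c = 0 → ∃ w, μ w = c := by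
    intro c hc
    have h1 : LinearMap.rTensor C g ((1 : A) ⊗ₜ[A] c) = 0 := by
      rw [LinearMap.rTensor_tmul]
      change (algebraMap A B 1) ⊗ₜ[A] c = 0
      rw [map_one, hc]
    obtain ⟨w, hw⟩ := (hex _).mp h1
    refine ⟨w, ?_⟩
    change TensorProduct.lid A C (LinearMap.rTensor C (LinearMap.ker g).subtype w) = c
    rw [hw, TensorProduct.lid_tmul, one_smul]
  have hmul : ∀ w w', μ w * μ w' = 0 := by
    intro w w'
    induction w using TensorProduct.induction_on with
    | zero => rw [map_zero, zero_mul]
    | add x y hx hy => rw [map_add, add_mul, hx, hy, add_zero]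
    | tmul n c =>
      induction w' using TensorProduct.induction_on with
      | zero => rw [map_zero, mul_zero]
      | add x y hx hy => rw [map_add, mul_add, hx, hy, add_zero]
      | tmul n' c' =>
        change TensorProduct.lid A C (LinearMap.rTensor C (LinearMap.ker g).subtype (n ⊗ₜ c)) *
          TensorProduct.lid A C (LinearMap.rTensor C (LinearMap.ker g).subtype (n' ⊗ₜ c')) = 0
        rw [LinearMap.rTensor_tmul, LinearMap.rTensor_tmul, TensorProduct.lid_tmul,
          TensorProduct.lid_tmul, Submodule.subtype_apply, Submodule.subtype_apply,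
          smul_mul_smul_comm, hsq _ _ n.2 n'.2, zero_smul]
  obtain ⟨w, rfl⟩ := hμ u hu
  obtain ⟨w', rfl⟩ := hμ v hv
  exact hmul w w'

theorem includeRight_surjective_of_surjective (hsurj : Function.Surjective (algebraMap A B)) :
    Function.Surjective (fun c : C => (1 : B) ⊗ₜ[A] c) := by
  intro z
  induction z using TensorProduct.induction_on with
  | zero => exact ⟨0, tmul_zero _ _⟩
  | add x y hx hy =>
    obtain ⟨x', hx'⟩ := hx
    obtain ⟨y', hy'⟩ := hy
    refine ⟨x' + y', ?_⟩
    change (1 : B) ⊗ₜ[A] (x' + y') = _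
    rw [tmul_add]
    exact congrArg₂ (· + ·) hx' hy'
  | tmul b c =>
    obtain ⟨a, rfl⟩ := hsurj b
    refine ⟨a • c, ?_⟩
    change (1 : B) ⊗ₜ[A] (a • c) = _
    rw [← smul_tmul, Algebra.smul_def, mul_one]

end Ker

end Groth.Agent.H78.NLHens
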