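import Mathlib
import Groth.Prelude.Def_SheafNL
import Groth.Agent.H78.NLHens.Main
import Groth.Agent.H78.NLHens.Thick
import Groth.Agent.H3.HensIntegralLocalBC
import Groth.Agent.H3.HensLocal
import Groth.Agent.H3.HensIso
import Groth.Agent.H10.HenselSquareZero
import Groth.Agent.S0506
import Groth.Agent.S0509
import Groth.Agent.S1961

/-!
# The naive cotangent complex and henselization
-/

set_option autoImplicit false
set_option linter.style.haveILetI false
set_option linter.unusedSectionVars false
universe u

open TensorProduct Algebra CategoryTheory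

namespace Groth.Agent.H78.NLHens

/-- A flat lift of the henselization `Bh` of `B` to the first order thickening `A[B]/I²` of `B`. -/
theorem exists_flatLift_hens (A B Bh : Type u) [CommRing A] [CommRing B] [CommRing Bh]
    [IsLocalRing B] [IsLocalRing Bh] [Algebra A B]
    [Algebra B Bh] [IsLocalHom (algebraMap B Bh)] [Hensel.IsHenselization B Bh] :
    ∃ (T' : Type u) (_ : CommRing T')
      (_ : Algebra (Generators.self A B).toExtension.infinitesimal.Ring T')
      (_ : Module.Flat (Generators.self A B).toExtension.infinitesimal.Ring T') (π : T' →+* Bh),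
      Function.Surjective π ∧
      (∀ n : (Generators.self A B).toExtension.infinitesimal.Ring,
        π (algebraMap (Generators.self A B).toExtension.infinitesimal.Ring T' n) =
        algebraMap B Bh (algebraMap (Generators.self A B).toExtension.infinitesimal.Ring B n)) ∧
      ∀ u v, π u = 0 → π v = 0 → u * v = 0 := by
  let P := (Generators.self A B).toExtension
  have hsurj : Function.Surjective (algebraMap P.infinitesimal.Ring B) :=
    algebraMap_infinitesimal_surjective P
  have hK := infinitesimal_sq_zero P
  haveI : IsLocalHom (algebraMap P.infinitesimal.Ring B) :=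
    Groth.Agent.H10.isLocalHom_of_surjective_of_sq_zero _ hsurj hK
  haveI : IsLocalRing P.infinitesimal.Ring := RingHom.domain_isLocalRing (algebraMap _ B)
  obtain ⟨T', _, _, _, _, hT'⟩ := Groth.Agent.S0506.result P.infinitesimal.Ring
  haveI := hT'
  haveI hff : Module.FaithfullyFlat P.infinitesimal.Ring T' :=
    Groth.Agent.S0509.result P.infinitesimal.Ring T'
  haveI : Algebra.IsIntegral P.infinitesimal.Ring B := Algebra.isIntegral_of_surjective hsurj
  have hpair := Groth.Agent.H3.HensIntegralBC.isPairHenselization_tensor_local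
    P.infinitesimal.Ring B T' hT'
  haveI := Groth.Agent.H3.HensLocal.isLocalRing hpair
  haveI := Groth.Agent.H3.HensLocal.isLocalHom hpair
  have hh : Hensel.IsHenselization B (B ⊗[P.infinitesimal.Ring] T') :=
    Groth.Agent.H3.HensLocal.isHenselization hpair
  obtain ⟨e, he⟩ := Groth.Agent.H3.HensIso.exists_ringEquiv_of_isHenselization hh
    (inferInstance : Hensel.IsHenselization B Bh)
  let inc : T' →+* B ⊗[P.infinitesimal.Ring] T' :=
    (Algebra.TensorProduct.includeRight : T' →ₐ[P.infinitesimal.Ring] _).toRingHom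
  have hinc : ∀ t, inc t = (1 : B) ⊗ₜ[P.infinitesimal.Ring] t := fun t => rfl
  refine ⟨T', inferInstance, inferInstance, inferInstance, (e : _ →+* Bh).comp inc, ?_, ?_, ?_⟩
  · intro y
    obtain ⟨z, rfl⟩ := e.surjective y
    obtain ⟨t, ht⟩ := includeRight_surjective_of_surjective (C := T') hsurj z
    exact ⟨t, by rw [RingHom.comp_apply, hinc, ← ht]; rfl⟩
  · intro n
    rw [RingHom.comp_apply, hinc]
    have h1 : (1 : B) ⊗ₜ[P.infinitesimal.Ring] (algebraMap P.infinitesimal.Ring T' n) =
        algebraMap B (B ⊗[P.infinitesimal.Ring] T') (algebraMap P.infinitesimal.Ring B n) := by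
      rw [Algebra.TensorProduct.algebraMap_apply, Algebra.algebraMap_eq_smul_one,
        Algebra.algebraMap_eq_smul_one (A := B), TensorProduct.tmul_smul, TensorProduct.smul_tmul']
      rfl
    rw [h1]
    exact RingHom.congr_fun he _
  · intro u v hu hv
    rw [RingHom.comp_apply, hinc] at hu hv
    have hu' : (1 : B) ⊗ₜ[P.infinitesimal.Ring] u = 0 :=
      e.injective (hu.trans (map_zero _).symm)
    have hv' : (1 : B) ⊗ₜ[P.infinitesimal.Ring] v = 0 :=
      e.injective (hv.trans (map_zero _).symm)
    exact mul_eq_zero_of_one_tmul_eq_zero hsurj hK u v hu' hv'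

/-- `NL_{B/A} ⊗_B B^h → NL_{B^h/A^h}` is a quasi-isomorphism. -/
theorem quasiIso_bcMapSelf_henselization (A B Ah Bh : Type u) [CommRing A] [CommRing B]
    [CommRing Ah] [CommRing Bh] [IsLocalRing A] [IsLocalRing B] [IsLocalRing Ah] [IsLocalRing Bh]
    [Algebra A B]
    [Algebra A Ah] [IsLocalHom (algebraMap A Ah)] [Hensel.IsHenselization A Ah]
    [Algebra B Bh] [IsLocalHom (algebraMap B Bh)] [Hensel.IsHenselization B Bh]
    [Algebra Ah Bh] [Algebra A Bh] [IsScalarTower A Ah Bh] [IsScalarTower A B Bh] :
    QuasiIso (NLCx.bcMapSelf A B Ah Bh) := by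
  haveI : Algebra.FormallyEtale A Ah := Groth.Agent.S1961.result A Ah
  haveI : Algebra.FormallyEtale B Bh := Groth.Agent.S1961.result B Bh
  haveI : Module.FaithfullyFlat B Bh := Groth.Agent.S0509.result B Bh
  obtain ⟨T', _, _, _, π, hπ, hπι, hsq⟩ := exists_flatLift_hens A B Bh
  exact quasiIso_bcMapSelf_of_flatLift π hπ hπι hsq

end Groth.Agent.H78.NLHens
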