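import Mathlib
import Groth.Prelude.Def_SheafNL
import Groth.Agent.H78.NLHens.Main
import Groth.Agent.H78.NLHens.Thick
import Groth.Agent.H3.StrictHensFiniteLocal
import Groth.Agent.H10.HenselSquareZero
import Groth.Agent.S0537
import Groth.Agent.S0539
import Groth.Agent.S1962

/-!
# The naive cotangent complex and strict henselization
-/

set_option autoImplicit false
set_option linter.style.haveILetI false
set_option linter.unusedSectionVars false
universe u

open TensorProduct Algebra CategoryTheory

namespace Groth.Agent.H78.NLHens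

/-- A flat lift of the strict henselization `Bsh` of `B` to the first order thickening `A[B]/I²`
of `B`. -/
theorem exists_flatLift_strict (A B Bsh : Type u) [CommRing A] [CommRing B] [CommRing Bsh]
    [IsLocalRing B] [IsLocalRing Bsh] [Algebra A B]
    [Algebra B Bsh] [IsLocalHom (algebraMap B Bsh)] [Hensel.IsStrictHenselization B Bsh] :
    ∃ (T' : Type u) (_ : CommRing T')
      (_ : Algebra (Generators.self A B).toExtension.infinitesimal.Ring T')
      (_ : Module.Flat (Generators.self A B).toExtension.infinitesimal.Ring T') (π : T' →+* Bsh),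
      Function.Surjective π ∧
      (∀ n : (Generators.self A B).toExtension.infinitesimal.Ring,
        π (algebraMap (Generators.self A B).toExtension.infinitesimal.Ring T' n) =
        algebraMap B Bsh (algebraMap (Generators.self A B).toExtension.infinitesimal.Ring B n)) ∧
      ∀ u v, π u = 0 → π v = 0 → u * v = 0 := by
  let P := (Generators.self A B).toExtension
  have hsurj : Function.Surjective (algebraMap P.infinitesimal.Ring B) :=
    algebraMap_infinitesimal_surjective P
  have hK := infinitesimal_sq_zero P
  haveI : IsLocalHom (algebraMap P.infinitesimal.Ring B) :=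
    Groth.Agent.H10.isLocalHom_of_surjective_of_sq_zero _ hsurj hK
  haveI : IsLocalRing P.infinitesimal.Ring := RingHom.domain_isLocalRing (algebraMap _ B)
  obtain ⟨T', _, _, _, _, hT'⟩ := Groth.Agent.S0537.result P.infinitesimal.Ring
  haveI := hT'
  haveI hff : Module.FaithfullyFlat P.infinitesimal.Ring T' :=
    Groth.Agent.S0539.result P.infinitesimal.Ring T'
  haveI : Module.Finite P.infinitesimal.Ring B :=
    Module.Finite.of_surjective (Algebra.linearMap P.infinitesimal.Ring B) hsurj
  obtain ⟨q, hq, ⟨e⟩⟩ := Groth.Agent.H3.StrictHensFiniteLocal.main P.infinitesimal.Ring B T' Bsh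
  let inc : T' →+* B ⊗[P.infinitesimal.Ring] T' :=
    (Algebra.TensorProduct.includeRight : T' →ₐ[P.infinitesimal.Ring] _).toRingHom
  have hinc : ∀ t, inc t = (1 : B) ⊗ₜ[P.infinitesimal.Ring] t := fun t => rfl
  have hincs : Function.Surjective inc := includeRight_surjective_of_surjective (C := T') hsurj
  haveI : Nontrivial (B ⊗[P.infinitesimal.Ring] T') := by
    refine ⟨⟨0, 1, fun h => hq.ne_top ?_⟩⟩
    rw [Ideal.eq_top_iff_one, ← h]
    exact zero_mem _
  haveI : IsLocalRing (B ⊗[P.infinitesimal.Ring] T') := IsLocalRing.of_surjective' inc hincs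
  have hloc : Function.Bijective (algebraMap (B ⊗[P.infinitesimal.Ring] T')
      (Localization.AtPrime q)) := by
    have hu : q.primeCompl ≤ IsUnit.submonoid (B ⊗[P.infinitesimal.Ring] T') := by
      intro y hy
      have hy' : y ∉ q := hy
      have hqe : q = IsLocalRing.maximalIdeal _ := IsLocalRing.eq_maximalIdeal hq
      have hy'' : y ∉ IsLocalRing.maximalIdeal (B ⊗[P.infinitesimal.Ring] T') := fun h =>
        hy' (hqe ▸ h)
      exact IsLocalRing.notMem_maximalIdeal.mp hy''
    exact (IsLocalization.atUnits (B ⊗[P.infinitesimal.Ring] T') q.primeCompl hu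
      (S := Localization.AtPrime q)).bijective
  let loc : B ⊗[P.infinitesimal.Ring] T' →+* Localization.AtPrime q := algebraMap _ _
  refine ⟨T', inferInstance, inferInstance, inferInstance,
    ((e : Localization.AtPrime q →+* Bsh).comp loc).comp inc, ?_, ?_, ?_⟩
  · exact (e.surjective.comp hloc.2).comp hincs
  · intro n
    rw [RingHom.comp_apply, RingHom.comp_apply, hinc]
    have h1 : (1 : B) ⊗ₜ[P.infinitesimal.Ring] (algebraMap P.infinitesimal.Ring T' n) =
        algebraMap B (B ⊗[P.infinitesimal.Ring] T') (algebraMap P.infinitesimal.Ring B n) := by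
      rw [Algebra.TensorProduct.algebraMap_apply, Algebra.algebraMap_eq_smul_one,
        Algebra.algebraMap_eq_smul_one (A := B), TensorProduct.tmul_smul, TensorProduct.smul_tmul']
      rfl
    rw [h1]
    change e (algebraMap (B ⊗[P.infinitesimal.Ring] T') (Localization.AtPrime q)
      (algebraMap B (B ⊗[P.infinitesimal.Ring] T') _)) = _
    rw [← IsScalarTower.algebraMap_apply B (B ⊗[P.infinitesimal.Ring] T') (Localization.AtPrime q)]
    exact e.commutes _
  · intro u v hu hv
    rw [RingHom.comp_apply, RingHom.comp_apply, hinc] at hu hv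
    have hu' : (1 : B) ⊗ₜ[P.infinitesimal.Ring] u = 0 :=
      hloc.1 ((e.injective (hu.trans (map_zero _).symm)).trans (map_zero _).symm)
    have hv' : (1 : B) ⊗ₜ[P.infinitesimal.Ring] v = 0 :=
      hloc.1 ((e.injective (hv.trans (map_zero _).symm)).trans (map_zero _).symm)
    exact mul_eq_zero_of_one_tmul_eq_zero hsurj hK u v hu' hv'

/-- `NL_{B/A} ⊗_B B^{sh} → NL_{B^{sh}/A^{sh}}` is a quasi-isomorphism. -/
theorem quasiIso_bcMapSelf_strictHenselization (A B Ash Bsh : Type u) [CommRing A] [CommRing B]
    [CommRing Ash] [CommRing Bsh] [IsLocalRing A] [IsLocalRing B] [IsLocalRing Ash]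
    [IsLocalRing Bsh] [Algebra A B]
    [Algebra A Ash] [IsLocalHom (algebraMap A Ash)] [Hensel.IsStrictHenselization A Ash]
    [Algebra B Bsh] [IsLocalHom (algebraMap B Bsh)] [Hensel.IsStrictHenselization B Bsh]
    [Algebra Ash Bsh] [Algebra A Bsh] [IsScalarTower A Ash Bsh] [IsScalarTower A B Bsh] :
    QuasiIso (NLCx.bcMapSelf A B Ash Bsh) := by
  haveI : Algebra.FormallyEtale A Ash := Groth.Agent.S1962.result A Ash
  haveI : Algebra.FormallyEtale B Bsh := Groth.Agent.S1962.result B Bsh
  haveI : Module.FaithfullyFlat B Bsh := Groth.Agent.S0539.result B Bsh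
  obtain ⟨T', _, _, _, π, hπ, hπι, hsq⟩ := exists_flatLift_strict A B Bsh
  exact quasiIso_bcMapSelf_of_flatLift π hπ hπι hsq

end Groth.Agent.H78.NLHens
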